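/-
A subgroup of odd prime order in the local group of a member of a group of type M(23), seen in the quotient.

Main results (namespace `Cfsg.Agent.PrimeNorm23`):
* `imgX`, `imgX_card` : the image of `X` in the local quotient;
* `fixD_quot` : the neighbours centralising `X` map onto the members centralising the image;
* `cent_quot`, `norm_quot` : centraliser and normaliser in `Loc a` are double covers;
* `far_fix_card`, `adj_conj` : stabiliser of a non-commuting pair, transitivity on commuting pairs.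
-/
import Cfsg.Agent.Lib.FischerM22.PrimeNorm.Petersen
import Cfsg.Agent.Lib.FischerM23.Total

set_option autoImplicit false

namespace Cfsg.Agent.PrimeNorm23

open Cfsg.Agent.ThreeTrans Cfsg.Agent.ThreeTransSU Cfsg.Agent.FischerM23 Cfsg.Agent.PrimeNorm

variable {G : Type*} [Group G] [Finite G] {D : Set G}

/-- The image of `X` in the local quotient. -/
def imgX (D : Set G) (a : G) (X : Subgroup G) : Subgroup (QL D a) :=
  (X.subgroupOf (Loc D a)).map (toQ ↥(Loc D a))

theorem cent_card_of_mem (S : Fi23Setup D) {a : G} (ha : a ∈ D) :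
    Nat.card ↥(Subgroup.centralizer ({a} : Set G)) = 129123503308800 := by
  rw [centralizer_eq_loc S ha, loc_card S ha]

theorem le_loc (S : Fi23Setup D) {a : G} {X : Subgroup G} (ha : a ∈ fixD D X) : X ≤ Loc D a := by
  rw [← centralizer_eq_loc S ha.1]; exact le_cent ha

variable {p : ℕ} [hp : Fact p.Prime] {X : Subgroup G} {a : G}

theorem toQ_eq_one (S : Fi23Setup D) (ha : a ∈ D) {z : ↥(Loc D a)} :
    toQ ↥(Loc D a) z = 1 ↔ (z : G) = 1 ∨ (z : G) = a :=
  (QuotientGroup.eq_one_iff z).trans (mem_center_loc_iff S ha z)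

/-- An element of `X` times `1` or `a` of order dividing `p` lies in `X`. -/
theorem sep (S : Fi23Setup D) (h2 : 2 < p) (ha : a ∈ D) {y z : ↥(Loc D a)} (hy : y ^ p = 1)
    (hz : toQ ↥(Loc D a) z = 1) (hyz : (y * z) ^ p = 1) : z = 1 := by
  have hzc := (QuotientGroup.eq_one_iff z).1 hz
  rw [(show Commute y z from Subgroup.mem_center_iff.1 hzc y).mul_pow, hy, one_mul] at hyz
  have h : z ^ 2 = 1 := by
    rcases (toQ_eq_one S ha).1 hz with h | h <;>
      refine Subtype.ext ?_ <;> rw [Subgroup.coe_pow, h, Subgroup.coe_one]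
    · exact one_pow 2
    · rw [pow_two, mul_self S.cls.1 ha]
  have := pow_gcd_eq_one.2 ⟨hyz, h⟩
  rwa [(hp.out.coprime_iff_not_dvd.2 fun hd => absurd (Nat.le_of_dvd two_pos hd) (by omega)).gcd_eq_one,
    pow_one] at this

theorem pow_sub (hX : Nat.card X = p) {g : ↥(Loc D a)} (hg : (g : G) ∈ X) : g ^ p = 1 := by
  have := pow_card_eq_one' (x := (⟨g, hg⟩ : X))
  rw [hX] at this
  exact Subtype.ext (by rw [Subgroup.coe_pow]; exact congrArg Subtype.val this)

theorem imgX_card (S : Fi23Setup D) (hX : Nat.card X = p) (h2 : 2 < p) (ha : a ∈ fixD D X) :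
    Nat.card (imgX D a X) = p := by
  have hle := le_loc S ha
  refine (Nat.card_congr (Equiv.ofBijective (fun g : X.subgroupOf (Loc D a) =>
    (⟨toQ ↥(Loc D a) g.1, ⟨g.1, g.2, rfl⟩⟩ : imgX D a X)) ⟨?_, ?_⟩)).symm.trans
    (by rw [Nat.card_congr (Subgroup.subgroupOfEquivOfLe hle).toEquiv, hX])
  · intro g h e
    have e2 : toQ ↥(Loc D a) g.1 = toQ ↥(Loc D a) h.1 := congrArg Subtype.val e
    have e' : toQ ↥(Loc D a) (g.1⁻¹ * h.1) = 1 := by
      rw [map_mul, map_inv, e2, inv_mul_cancel]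
    have := sep S h2 ha.1 (pow_sub hX g.2) e' (by rw [mul_inv_cancel_left]; exact pow_sub hX h.2)
    exact Subtype.ext (inv_mul_eq_one.1 this)
  · rintro ⟨_, g, hg, rfl⟩
    exact ⟨⟨g, hg⟩, rfl⟩

theorem fixD_quot (S : Fi23Setup D) (ha : a ∈ fixD D X) :
    fixD (QSet D a) (imgX D a X) = qm D a '' (fixD D X ∩ adj D a) := by
  have hle := le_loc S ha
  ext q
  constructor
  · intro hq
    obtain ⟨y, hy, rfl⟩ := (qset_eq (D := D) a).subset hq.1
    refine ⟨y, ⟨mem_fixD.2 ⟨hy.1, fun x hx => ?_⟩, hy⟩, rfl⟩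
    have h := (mem_fixD.1 hq).2 (qm D a x) ⟨⟨x, hle hx⟩, hx, (qm_of_mem (hle hx)).symm⟩
    exact mul_inv_eq_iff_eq_mul.1 (conj_eq_of_qm S ha.1 (hle hx) hy hy (by rw [h.eq, mul_inv_cancel_right]))
  · rintro ⟨y, ⟨hy, hya⟩, rfl⟩
    refine mem_fixD.2 ⟨qm_mem hya, ?_⟩
    rintro _ ⟨g, hg, rfl⟩
    rw [qm_of_mem (mem_loc_of_adj hya)]
    exact (show Commute g ⟨y, mem_loc_of_adj hya⟩ from Subtype.ext ((mem_fixD.1 hy).2 g hg)).map _

theorem fixD_adj_ncard (S : Fi23Setup D) (ha : a ∈ fixD D X) :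
    (fixD D X ∩ adj D a).ncard = (fixD (QSet D a) (imgX D a X)).ncard := by
  rw [fixD_quot S ha, qm_ncard S ha.1 Set.inter_subset_right]

/-- Subgroups of the local group that are preimages. -/
theorem card_preimage (S : Fi23Setup D) (ha : a ∈ D) {H : Subgroup G} {K : Subgroup (QL D a)}
    (hH : ∀ g : ↥(Loc D a), (g : G) ∈ H ↔ toQ ↥(Loc D a) g ∈ K) :
    Nat.card ↥(Subgroup.centralizer ({a} : Set G) ⊓ H) = 2 * Nat.card K := by
  rw [centralizer_eq_loc S ha, inf_comm,
    ← Nat.card_congr (Subgroup.subgroupOfEquivOfLe (inf_le_right : H ⊓ Loc D a ≤ Loc D a)).toEquiv,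
    Subgroup.inf_subgroupOf_right]
  have e : H.subgroupOf (Loc D a) = K.comap (toQ ↥(Loc D a)) := by ext g; exact hH g
  have hs : Function.Surjective (toQ ↥(Loc D a)) := QuotientGroup.mk'_surjective _
  have h1 := Subgroup.card_mul_index (K.comap (toQ ↥(Loc D a)))
  rw [Subgroup.index_comap_of_surjective K hs, Subgroup.card_eq_card_quotient_mul_card_subgroup
    (Subgroup.center ↥(Loc D a)), card_center_loc S ha, ← Subgroup.card_mul_index K] at h1
  rw [e]
  exact Nat.eq_of_mul_eq_mul_right (Nat.pos_of_ne_zero Subgroup.index_ne_zero_of_finite) (by linarith)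

theorem cent_quot (S : Fi23Setup D) (hX : Nat.card X = p) (h2 : 2 < p) (ha : a ∈ fixD D X) :
    Nat.card ↥(Subgroup.centralizer ({a} : Set G) ⊓ Subgroup.centralizer (X : Set G)) =
      2 * Nat.card ↥(Subgroup.centralizer ((imgX D a X) : Set (QL D a))) := by
  have hle := le_loc S ha
  refine card_preimage S ha.1 fun g => ⟨fun hg => Subgroup.mem_centralizer_iff.2 ?_,
    fun hg => Subgroup.mem_centralizer_iff.2 fun x hx => ?_⟩
  · rintro _ ⟨x, hx, rfl⟩
    exact (show Commute x g from Subtype.ext (Subgroup.mem_centralizer_iff.1 hg x hx)).map _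
  · let x' : ↥(Loc D a) := ⟨x, hle hx⟩
    have hc : Commute (toQ ↥(Loc D a) x') (toQ ↥(Loc D a) g) :=
      Subgroup.mem_centralizer_iff.1 hg _ ⟨x', hx, rfl⟩
    have hz : toQ ↥(Loc D a) (x'⁻¹ * (g * x' * g⁻¹)) = 1 := by
      rw [map_mul, map_inv, map_mul, map_mul, map_inv, hc.symm.eq, mul_inv_cancel_right, inv_mul_cancel]
    have := sep S h2 ha.1 (pow_sub hX (g := x') hx) hz
      (by rw [mul_inv_cancel_left, conj_pow, pow_sub hX (g := x') hx, mul_one, mul_inv_cancel])
    exact congrArg Subtype.val (mul_inv_eq_iff_eq_mul.1 (inv_mul_eq_one.1 this).symm).symm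

theorem norm_quot (S : Fi23Setup D) (hX : Nat.card X = p) (h2 : 2 < p) (ha : a ∈ fixD D X) :
    Nat.card ↥(Subgroup.centralizer ({a} : Set G) ⊓ Subgroup.normalizer (X : Set G)) =
      2 * Nat.card ↥(Subgroup.normalizer ((imgX D a X) : Set (QL D a))) := by
  have hle := le_loc S ha
  refine card_preimage S ha.1 fun g => ?_
  rw [Subgroup.mem_normalizer_iff_map_conj_eq, Subgroup.mem_normalizer_iff_map_conj_eq]
  constructor
  · intro hg
    refine Subgroup.eq_of_le_of_card_ge ?_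
      (by rw [Nat.card_congr ((imgX D a X).equivMapOfInjective _ (MulAut.conj _).injective).toEquiv.symm])
    rintro _ ⟨_, ⟨x, hx, rfl⟩, rfl⟩
    exact ⟨g * x * g⁻¹, hg.le ⟨x, hx, rfl⟩, by simp⟩
  · intro hg
    refine Subgroup.eq_of_le_of_card_ge ?_
      (by rw [Nat.card_congr (X.equivMapOfInjective _ (MulAut.conj _).injective).toEquiv.symm])
    rintro _ ⟨x, hx, rfl⟩
    let x' : ↥(Loc D a) := ⟨x, hle hx⟩
    obtain ⟨y, hy, hyq⟩ := hg.le ⟨_, ⟨x', hx, rfl⟩, rfl⟩
    have hq : toQ ↥(Loc D a) (g * x' * g⁻¹) = toQ ↥(Loc D a) y := by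
      rw [map_mul, map_mul, map_inv, hyq]; rfl
    have := sep S h2 ha.1 (pow_sub hX (g := y) hy) (z := y⁻¹ * (g * x' * g⁻¹))
      (by rw [map_mul, map_inv, hq, inv_mul_cancel])
      (by rw [mul_inv_cancel_left, conj_pow, pow_sub hX (g := x') hx, mul_one, mul_inv_cancel])
    rw [inv_mul_eq_one] at this
    have e : (g : G) * x * (g : G)⁻¹ = (y : G) := congrArg Subtype.val this.symm
    show (g : G) * x * (g : G)⁻¹ ∈ X
    rw [e]; exact hy

omit hp in
theorem far_fix_card (S : Fi23Setup D) {e : G} (ha : a ∈ D) (he : e ∈ D) (hae : ¬ Commute a e) :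
    Nat.card ↥(Subgroup.centralizer ({a} : Set G) ⊓ Subgroup.centralizer {e}) = 4585351680 := by
  have h := orbit_single (Subgroup.centralizer ({a} : Set G)) e (O := {y | y ∈ D ∧ ¬ Commute a y}) fun y => by
    constructor
    · rintro ⟨hy, hay⟩
      obtain ⟨g, hga, hg⟩ := centralizer_transitive S ha he hy hae hay
      exact ⟨g, Subgroup.mem_centralizer_singleton_iff.2 hga, hg⟩
    · rintro ⟨g, hg, rfl⟩
      have hga : g * a * g⁻¹ = a := mul_inv_eq_iff_eq_mul.2 (Subgroup.mem_centralizer_singleton_iff.1 hg)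
      refine ⟨S.conj_mem g he, fun hc => hae ?_⟩
      refine Commute.of_map (f := (MulAut.conj g).toMonoidHom) (MulAut.conj g).injective ?_
      show Commute (g * a * g⁻¹) (g * e * g⁻¹)
      rwa [hga]
  rw [far_ncard S ha, cent_card_of_mem S ha] at h
  omega

omit hp in
/-- `C(a)` is transitive on the neighbours of `a`. -/
theorem adj_conj (S : Fi23Setup D) {b c : G} (ha : a ∈ D) (hb : b ∈ adj D a) (hc : c ∈ adj D a) :
    ∃ g ∈ Subgroup.centralizer ({a} : Set G), g * b * g⁻¹ = c := by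
  obtain ⟨q, hq⟩ := class_conj (S.localSetup ha).cls (qm_mem hb) (qm_mem hc)
  obtain ⟨g, rfl⟩ := QuotientGroup.mk'_surjective _ q
  refine ⟨g, by rw [centralizer_eq_loc S ha]; exact g.2, conj_eq_of_qm S ha g.2 hb hc ?_⟩
  rw [qm_coe]; exact hq

end Cfsg.Agent.PrimeNorm23
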