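/-
The normaliser of a subgroup of order 7 in a group of type M(23).

Main results (namespace `Cfsg.Agent.PrimeNorm23`):
* `seven_petersen` : the members centralising `X` have the shape of the Petersen graph;
* `seven_structure` : `N(X)` is the direct product of a Frobenius group of order 42 and a group `S₅`.
-/
import Cfsg.Agent.Lib.FischerM23.PrimeNorm.Quot

set_option autoImplicit false

namespace Cfsg.Agent.PrimeNorm23

open Cfsg.Agent.ThreeTrans Cfsg.Agent.ThreeTransSU Cfsg.Agent.FischerM23 Cfsg.Agent.PrimeNorm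

variable {G : Type*} [Group G] [Finite G] {D : Set G}

theorem seven_petersen (S : Fi23Setup D) {X : Subgroup G} (hX : Nat.card X = 7) : Petersen D (fixD D X) := by
  have := Fact.mk (by norm_num : Nat.Prime 7)
  have hconj : ∀ g : G, ∀ d ∈ D, g * d * g⁻¹ ∈ D := fun g d hd => S.conj_mem g hd
  have hdeg : ∀ a ∈ fixD D X, (fixD D X ∩ adj D a).ncard = 3 := fun a ha => by
    rw [fixD_adj_ncard S ha, (seven_count (S.localSetup ha.1) (imgX_card S hX (by norm_num) ha)).1]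
  refine ⟨fun a ha => ha.1, ?_, hdeg, ?_, ?_, fun a ha b hb => conj_fixD hconj
    (Subgroup.centralizer_le_normalizer _ ha.2) hb⟩
  · refine Set.nonempty_of_ncard_ne_zero fun h0 => ?_
    have h := fix_modEq hX D fun x _ y hy => S.conj_mem x hy
    rw [class_ncard S, h0] at h
    exact absurd h (by decide)
  · intro a ha b hb c hc hne hbc
    have hQ := imgX_card S hX (by norm_num) ha
    refine fixD_far (S.localSetup ha.1) hQ (by norm_num) ?_ ?_ (fun e => hne (qm_inj S ha.1 hb.2 hc.2 e))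
      ((qm_comm S ha.1 hb.2 hc.2).2 hbc)
    · rw [fixD_quot S ha]; exact ⟨b, hb, rfl⟩
    · rw [fixD_quot S ha]; exact ⟨c, hc, rfl⟩
  · intro a ha e he hae
    have hS : ∀ x ∈ X, ∀ y ∈ common D a e, x * y * x⁻¹ ∈ common D a e := fun x hx y hy => by
      have hxa : x * a * x⁻¹ = a := mul_inv_eq_iff_eq_mul.2 ((mem_fixD.1 ha).2 x hx)
      have hxe : x * e * x⁻¹ = e := mul_inv_eq_iff_eq_mul.2 ((mem_fixD.1 he).2 x hx)
      have h1 := (conj_adj hconj x a (x * y * x⁻¹)).2 (by simpa [mul_assoc] using hy.1)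
      have h2 := (conj_adj hconj x e (x * y * x⁻¹)).2 (by simpa [mul_assoc] using hy.2)
      rw [hxa] at h1
      rw [hxe] at h2
      exact ⟨h1, h2⟩
    have h := fix_modEq hX (common D a e) hS
    rw [common_card S ha.1 he.1 hae] at h
    have heq : fixD (common D a e) X = fixD D X ∩ adj D a ∩ adj D e := by
      ext y
      exact ⟨fun hy => ⟨⟨⟨hy.1.1.1, hy.2⟩, hy.1.1⟩, hy.1.2⟩, fun hy => ⟨⟨hy.1.2, hy.2⟩, hy.1.1.2⟩⟩
    rw [heq] at h
    have hle : (fixD D X ∩ adj D a ∩ adj D e).ncard ≤ 3 :=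
      (Set.ncard_le_ncard Set.inter_subset_left (Set.toFinite _)).trans (hdeg a ha).le
    have h' : 351 % 7 = (fixD D X ∩ adj D a ∩ adj D e).ncard % 7 := h
    omega

theorem seven_structure (S : Fi23Setup D) {X : Subgroup G} (hX : Nat.card X = 7) :
    ∃ F : Subgroup G, Nat.card ↥F = 42 ∧ X ≤ F ∧ F ⊓ Subgroup.centralizer (X : Set G) = X ∧
      F ⊓ Subgroup.closure (fixD D X) = ⊥ ∧
      (∀ x ∈ F, ∀ y ∈ Subgroup.closure (fixD D X), x * y = y * x) ∧
      F ⊔ Subgroup.closure (fixD D X) = Subgroup.normalizer (X : Set G) ∧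
      Nonempty (↥(Subgroup.closure (fixD D X)) ≃* Equiv.Perm (Fin 5)) := by
  have := Fact.mk (by norm_num : Nat.Prime 7)
  have hconj : ∀ g : G, ∀ d ∈ D, g * d * g⁻¹ ∈ D := fun g d hd => S.conj_mem g hd
  have P := seven_petersen S hX
  obtain ⟨h10, he, hreg, -⟩ := P.sym_five S.cls.1
  set T := fixD D X with hT
  set N := Subgroup.normalizer (X : Set G)
  set C := Subgroup.centralizer (X : Set G)
  have hLC : Subgroup.closure T ≤ C := (Subgroup.closure_le _).2 fun y hy => hy.2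
  have hCN : C ≤ N := Subgroup.centralizer_le_normalizer _
  have hN : ∀ g ∈ N, ∀ b ∈ T, g * b * g⁻¹ ∈ T := fun g hg b hb => conj_fixD hconj hg hb
  obtain ⟨hbot, hcomm, hsup, hcard⟩ := petersen_split S.cls.1 P (hLC.trans hCN) hN
  obtain ⟨-, -, -, hcardC⟩ := petersen_split S.cls.1 P hLC fun g hg => hN g (hCN hg)
  obtain ⟨d, hd⟩ := P.ne
  have hQ := imgX_card S hX (by norm_num) hd
  obtain ⟨-, n22, c22⟩ := seven_count (S.localSetup hd.1) hQ
  have htr : ∀ y ∈ T, ∃ g ∈ Subgroup.closure T, g * d * g⁻¹ = y := by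
    intro y hy
    have ext : ∀ a ∈ T, ∃ t₁ t₂ t₃, ((a, t₁, t₂, t₃) : G × G × G × G) ∈ frames D T := fun a ha => by
      obtain ⟨t₂, h2⟩ := Set.nonempty_of_ncard_ne_zero (by rw [P.deg a ha]; norm_num : (T ∩ adj D a).ncard ≠ 0)
      obtain ⟨t₃, h3, n3⟩ := Set.exists_ne_of_one_lt_ncard (by rw [P.deg a ha]; norm_num : 1 < (T ∩ adj D a).ncard) t₂
      obtain ⟨t₁, h1, n1⟩ := Set.exists_ne_of_one_lt_ncard (by rw [P.deg t₃ h3.1]; norm_num : 1 < (T ∩ adj D t₃).ncard) a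
      exact ⟨t₁, t₂, t₃, ha, h2, ⟨h3, n3⟩, h1, n1⟩
    obtain ⟨_, _, _, hq⟩ := ext d hd
    obtain ⟨_, _, _, hq'⟩ := ext y hy
    obtain ⟨l, hl, e, -⟩ := hreg _ hq _ hq'
    exact ⟨l, hl, e⟩
  have hNd := orbit_single N d (O := T) fun y =>
    ⟨fun hy => let ⟨g, hg, e⟩ := htr y hy; ⟨g, hCN (hLC hg), e⟩, fun ⟨g, hg, e⟩ => e ▸ hN g hg d hd⟩
  have hCd := orbit_single C d (O := T) fun y =>
    ⟨fun hy => let ⟨g, hg, e⟩ := htr y hy; ⟨g, hLC hg, e⟩, fun ⟨g, hg, e⟩ => e ▸ hN g (hCN hg) d hd⟩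
  rw [h10, inf_comm, norm_quot S hX (by norm_num) hd, n22] at hNd
  rw [h10, inf_comm, cent_quot S hX (by norm_num) hd, c22] at hCd
  rw [hNd] at hcard
  rw [hCd] at hcardC
  have hXC : X ≤ C := fun z hz => Subgroup.mem_centralizer_iff.2 fun w hw => by
    have := isCyclic_of_prime_card hX
    exact congrArg Subtype.val ((IsMulCommutative.is_comm (M := X)).comm ⟨w, hw⟩ ⟨z, hz⟩)
  have hXF : X ≤ N ⊓ Subgroup.centralizer T :=
    le_inf (hXC.trans hCN) fun x hx => Subgroup.mem_centralizer_iff.2 fun t ht => ((mem_fixD.1 ht).2 x hx).symm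
  refine ⟨N ⊓ Subgroup.centralizer T, by omega, hXF, ?_, hbot, hcomm, hsup, he⟩
  refine (Subgroup.eq_of_le_of_card_ge (le_inf hXF hXC) ?_).symm
  have e : (N ⊓ Subgroup.centralizer T) ⊓ C = C ⊓ Subgroup.centralizer T :=
    le_antisymm (le_inf inf_le_right (inf_le_left.trans inf_le_right))
      (le_inf (le_inf (inf_le_left.trans hCN) inf_le_right) inf_le_left)
  rw [e, hX]
  omega

end Cfsg.Agent.PrimeNorm23
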