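/-
Twenty-one members in the shape of the transpositions of seven letters.

Main results (namespace `Cfsg.Agent.PrimeNorm23`):
* `Seven D T` : every member of `T` has a Petersen graph of neighbours in `T`, and two non-commuting
  members have six common neighbours there;
* `Seven.sym_seven` : then `T` has 21 members and generates `S₇`;
* `Seven.generators` : four neighbours of a member and one further member generate, the latter up to two choices.
-/
import Cfsg.Agent.Lib.FischerM22.PrimeNorm.Petersen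
import Cfsg.Agent.Lib.FischerM22.Graph

set_option autoImplicit false

namespace Cfsg.Agent.PrimeNorm23

open Cfsg.Agent.ThreeTrans Cfsg.Agent.PrimeNorm

variable {G : Type*} [Group G]

theorem perm_seven_center (z : Equiv.Perm (Fin 7)) (hz : ∀ t, z * t = t * z) : z = 1 := by
  refine Equiv.ext fun i => ?_
  show z i = i
  by_contra hne
  obtain ⟨k, hk, hk'⟩ : ∃ k, k ≠ i ∧ k ≠ z i := by
    have := (show ∀ i j : Fin 7, ∃ k, k ≠ i ∧ k ≠ j by decide) i (z i)
    exact this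
  have h := congrArg (fun σ : Equiv.Perm (Fin 7) => σ i) (hz (Equiv.swap i k))
  simp only [Equiv.Perm.mul_apply, Equiv.swap_apply_left] at h
  rw [Equiv.swap_apply_of_ne_of_ne (fun e : z i = i => hne e) hk'.symm] at h
  exact hk (z.injective h)

theorem seven_two : ∀ i j : Fin 7, i < j → Equiv.swap i j * Equiv.swap 0 1 = Equiv.swap 0 1 * Equiv.swap i j →
    Equiv.swap i j * Equiv.swap 1 2 = Equiv.swap 1 2 * Equiv.swap i j →
    Equiv.swap i j * Equiv.swap 2 3 = Equiv.swap 2 3 * Equiv.swap i j →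
    Equiv.swap i j * Equiv.swap 5 6 ≠ Equiv.swap 5 6 * Equiv.swap i j →
    Equiv.swap i j = Equiv.swap 4 5 ∨ Equiv.swap i j = Equiv.swap 5 6 * Equiv.swap 4 5 * Equiv.swap 5 6 := by
  decide +kernel

/-- The shape of the transpositions of seven letters. -/
structure Seven (D T : Set G) : Prop where
  sub : T ⊆ D
  ne : T.Nonempty
  loc : ∀ a ∈ T, Petersen D (T ∩ adj D a)
  ten : ∀ a ∈ T, (T ∩ adj D a).ncard = 10
  six : ∀ a ∈ T, ∀ e ∈ T, ¬ Commute a e → (T ∩ adj D a ∩ adj D e).ncard = 6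
  conj : ∀ a ∈ T, ∀ b ∈ T, a * b * a⁻¹ ∈ T

variable [Finite G] {D T : Set G}

omit [Finite G] in
/-- A common neighbour of two non-commuting members commutes with exactly one other. -/
theorem Seven.mate (P : Seven D T) {a e b : G} (ha : a ∈ T) (he : e ∈ T) (hae : ¬ Commute a e)
    (hb : b ∈ T ∩ adj D a ∩ adj D e) : (T ∩ adj D a ∩ adj D e ∩ adj D b).ncard = 1 := by
  have h := (P.loc b hb.1.1).one a ⟨ha, adj_symm' (P.sub ha) hb.1.2⟩ e ⟨he, adj_symm' (P.sub he) hb.2⟩ hae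
  convert h using 2
  ext y
  simp only [Set.mem_inter_iff]
  tauto
where
  adj_symm' {a b : G} (ha : a ∈ D) (h : b ∈ adj D a) : a ∈ adj D b := ⟨ha, h.2.1.symm, h.2.2.symm⟩

open scoped Classical in
theorem Seven.ncard_le (P : Seven D T) : T.ncard ≤ 21 := by
  obtain ⟨a, ha⟩ := P.ne
  set A := (T ∩ adj D a).toFinite.toFinset with hA
  set C := {e | e ∈ T ∧ ¬ Commute a e}.toFinite.toFinset with hC
  have mA : ∀ {b}, b ∈ A ↔ b ∈ T ∩ adj D a := fun {b} => by simp [hA]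
  have mC : ∀ {e}, e ∈ C ↔ e ∈ T ∧ ¬ Commute a e := fun {e} => by simp [hC]
  have h := FischerM22.sum_card_filter A C fun b e => b ∈ adj D e
  have hC6 : ∀ e ∈ C, (A.filter fun b => b ∈ adj D e).card = 6 := fun e he => by
    rw [← P.six a ha e (mC.1 he).1 (mC.1 he).2, ← Set.ncard_coe_finset]
    congr 1
    ext b
    simp only [Finset.coe_filter, mA, Set.mem_ofPred_eq, Set.mem_inter_iff]
  have hA6 : ∀ b ∈ A, (C.filter fun e => b ∈ adj D e).card ≤ 6 := by
    intro b hb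
    obtain ⟨hbT, hba⟩ := mA.1 hb
    have Pb := P.loc b hbT
    have haTb : a ∈ T ∩ adj D b := ⟨ha, P.sub ha, hba.2.1.symm, hba.2.2.symm⟩
    rw [← Set.ncard_coe_finset]
    have hsub : (↑(C.filter fun e => b ∈ adj D e) : Set G) ⊆
        (T ∩ adj D b) \ insert a ((T ∩ adj D b) ∩ adj D a) := by
      intro e he
      obtain ⟨h1, h2⟩ := Finset.mem_filter.1 he
      obtain ⟨heT, hae⟩ := mC.1 h1
      refine ⟨⟨heT, P.sub heT, h2.2.1.symm, h2.2.2.symm⟩, ?_⟩
      rintro (rfl | h)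
      exacts [hae (Commute.refl _), hae h.2.2.2]
    refine (Set.ncard_le_ncard hsub (Set.toFinite _)).trans ?_
    rw [Set.ncard_sdiff (Set.insert_subset haTb Set.inter_subset_left),
      Set.ncard_insert_of_notMem (fun h => h.2.2.1 rfl), P.ten b hbT, Pb.deg a haTb]
  have hAc : A.card = 10 := by rw [← P.ten a ha, hA, ← Set.ncard_eq_toFinset_card]
  have h60 : 6 * C.card ≤ 60 := by
    rw [mul_comm]
    calc C.card * 6 = ∑ e ∈ C, (A.filter fun b => b ∈ adj D e).card := by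
          rw [Finset.sum_congr rfl hC6, Finset.sum_const, smul_eq_mul]
      _ = ∑ b ∈ A, (C.filter fun e => b ∈ adj D e).card := h.symm
      _ ≤ ∑ _b ∈ A, 6 := Finset.sum_le_sum hA6
      _ = 60 := by rw [Finset.sum_const, hAc, smul_eq_mul]
  have hCc : {e | e ∈ T ∧ ¬ Commute a e}.ncard = C.card := Set.ncard_eq_toFinset_card _
  have hsub : T ⊆ insert a ((T ∩ adj D a) ∪ {e | e ∈ T ∧ ¬ Commute a e}) := by
    intro e he
    by_cases h1 : e = a
    · exact Or.inl h1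
    by_cases h2 : Commute a e
    · exact Or.inr (Or.inl ⟨he, P.sub he, h1, h2⟩)
    · exact Or.inr (Or.inr ⟨he, h2⟩)
  refine (Set.ncard_le_ncard hsub (Set.toFinite _)).trans ((Set.ncard_insert_le _ _).trans ?_)
  have := Set.ncard_union_le (T ∩ adj D a) {e | e ∈ T ∧ ¬ Commute a e}
  rw [P.ten a ha] at this
  omega

variable (hD : Cfsg.IsThreeTranspositionSet D)
include hD

omit [Finite G] in
theorem Seven.conj_mem_self (P : Seven D T) : ∀ g ∈ Subgroup.closure T, ∀ b ∈ T, g * b * g⁻¹ ∈ T := by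
  intro g hg
  induction hg using Subgroup.closure_induction'' with
  | one => intro b hb; simpa using hb
  | mem a ha => exact P.conj a ha
  | inv_mem a ha => intro b hb; rw [inv_eq hD (P.sub ha)]; exact P.conj a ha b hb
  | mul x y _ _ hx hy =>
    intro b hb
    rw [show x * y * b * (x * y)⁻¹ = x * (y * b * y⁻¹) * x⁻¹ by group]
    exact hx _ (hy b hb)

/-- The set is the image of the transpositions under an embedding carrying a given one to `a`. -/
theorem Seven.exists_param (P : Seven D T) {a : G} (ha : a ∈ T) :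
    ∃ φ : Equiv.Perm (Fin 7) →* G, Function.Injective φ ∧ φ (Equiv.swap 5 6) = a ∧
      T = φ '' ↑((Finset.univ.filter fun q : Fin 7 × Fin 7 => q.1 < q.2).image fun q => Equiv.swap q.1 q.2) ∧
      φ.range = Subgroup.closure T := by
  classical
  have Pa := P.loc a ha
  obtain ⟨e, he, hae⟩ : ∃ e ∈ T, ¬ Commute a e := by
    by_contra hno
    push Not at hno
    obtain ⟨b, hb⟩ := Pa.ne
    obtain ⟨c, hc, hc'⟩ : ∃ c ∈ (T ∩ adj D b) \ insert a ((T ∩ adj D b) ∩ adj D a), True := by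
      refine Exists.elim (Set.nonempty_of_ncard_ne_zero (s := (T ∩ adj D b) \ insert a ((T ∩ adj D b) ∩ adj D a)) ?_)
        fun c hc => ⟨c, hc, trivial⟩
      have haTb : a ∈ T ∩ adj D b := ⟨ha, P.sub ha, hb.2.2.1.symm, hb.2.2.2.symm⟩
      rw [Set.ncard_sdiff (Set.insert_subset haTb Set.inter_subset_left),
        Set.ncard_insert_of_notMem (fun h => h.2.2.1 rfl), P.ten b hb.1, (P.loc b hb.1).deg a haTb]
      norm_num
    refine hc.2 (Classical.or_iff_not_imp_left.2 fun h => ⟨hc.1, P.sub hc.1.1, h, hno c hc.1.1⟩)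
  set H := T ∩ adj D a ∩ adj D e with hH
  have h6 : H.ncard = 6 := P.six a ha e he hae
  obtain ⟨t₁, h1⟩ := Set.nonempty_of_ncard_ne_zero (by rw [h6]; norm_num : H.ncard ≠ 0)
  obtain ⟨t₃, hm⟩ := Set.ncard_eq_one.1 (P.mate ha he hae h1)
  have h3 : t₃ ∈ H ∩ adj D t₁ := hm.ge rfl
  obtain ⟨t₂, h2, h2'⟩ : ∃ t₂ ∈ H, t₂ ∉ ({t₁, t₃} : Set G) := by
    by_contra hno
    push Not at hno
    have := Set.ncard_le_ncard hno (Set.toFinite _)
    have h := Set.ncard_insert_le t₁ ({t₃} : Set G)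
    rw [Set.ncard_singleton] at h
    omega
  simp only [Set.mem_insert_iff, Set.mem_singleton_iff, not_or] at h2'
  have m12 : ¬ Commute t₁ t₂ := fun hc => h2'.2 (hm.subset (⟨h2, h2.2.1, h2'.1, hc⟩ : t₂ ∈ H ∩ adj D t₁))
  have m23 : ¬ Commute t₂ t₃ := by
    intro hc
    obtain ⟨m, hm'⟩ := Set.ncard_eq_one.1 (P.mate ha he hae h3.1)
    have e1 : t₁ = m := hm'.subset (⟨h1, h1.2.1, h3.2.2.1.symm, h3.2.2.2.symm⟩ : t₁ ∈ H ∩ adj D t₃)
    have e2 : t₂ = m := hm'.subset (⟨h2, h2.2.1, h2'.2, hc.symm⟩ : t₂ ∈ H ∩ adj D t₃)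
    exact h2'.1 (e2.trans e1.symm)
  obtain ⟨t₄, h4s⟩ := Set.ncard_eq_one.1 (Pa.one t₁ h1.1 t₂ h2.1 m12)
  have h4 : t₄ ∈ (T ∩ adj D a) ∩ adj D t₁ ∩ adj D t₂ := h4s.ge rfl
  have n43 : t₄ ≠ t₃ := fun h => m23 (h ▸ h4.2.2.2)
  have m34 : ¬ Commute t₃ t₄ := Pa.tri t₁ h1.1 t₃ ⟨h3.1.1, h3.2⟩ t₄ h4.1 n43.symm
  have m4e : ¬ Commute t₄ e := fun hc => n43 (hm.subset
    (⟨⟨h4.1.1, h4.1.1.2.1, fun h => hae (h ▸ h4.1.1.2.2.2), hc.symm⟩, h4.1.2⟩ : t₄ ∈ H ∩ adj D t₁))
  let t : ℕ → G := fun i => if i = 0 then t₁ else if i = 1 then t₂ else if i = 2 then t₃ else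
    if i = 3 then t₄ else if i = 4 then e else a
  have hbr : BraidA t 6 := ⟨fun i hi => by
      interval_cases i
      exacts [mul_self hD h1.2.1, mul_self hD h2.2.1, mul_self hD h3.1.2.1, mul_self hD h4.2.1,
        mul_self hD (P.sub he), mul_self hD (P.sub ha)],
    fun i hi => by
      obtain rfl | rfl | rfl | rfl | rfl : i = 0 ∨ i = 1 ∨ i = 2 ∨ i = 3 ∨ i = 4 := by omega
      exacts [braid hD h1.2.1 h2.2.1 m12, braid hD h2.2.1 h3.1.2.1 m23, braid hD h3.1.2.1 h4.2.1 m34,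
        braid hD h4.2.1 (P.sub he) m4e, braid hD (P.sub he) (P.sub ha) fun h => hae h.symm],
    fun i j hij hj => by
      obtain ⟨rfl, rfl⟩ | ⟨rfl, rfl⟩ | ⟨rfl, rfl⟩ | ⟨rfl, rfl⟩ | ⟨rfl, rfl⟩ | ⟨rfl, rfl⟩ | ⟨rfl, rfl⟩ |
          ⟨rfl, rfl⟩ | ⟨rfl, rfl⟩ | ⟨rfl, rfl⟩ :
          (i = 0 ∧ j = 2) ∨ (i = 0 ∧ j = 3) ∨ (i = 0 ∧ j = 4) ∨ (i = 0 ∧ j = 5) ∨ (i = 1 ∧ j = 3) ∨
          (i = 1 ∧ j = 4) ∨ (i = 1 ∧ j = 5) ∨ (i = 2 ∧ j = 4) ∨ (i = 2 ∧ j = 5) ∨ (i = 3 ∧ j = 5) := by omega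
      exacts [h3.2.2.2, h4.1.2.2.2, h1.2.2.2.symm, h1.1.2.2.2.symm, h4.2.2.2, h2.2.2.2.symm, h2.1.2.2.2.symm,
        h3.1.2.2.2.symm, h3.1.1.2.2.2.symm, h4.1.1.2.2.2.symm]⟩
  obtain ⟨φ, hφ⟩ := exists_hom_perm hbr
  have e0 : φ (Equiv.swap 0 1) = t₁ := hφ 0
  have e1 : φ (Equiv.swap 1 2) = t₂ := hφ 1
  have e2 : φ (Equiv.swap 2 3) = t₃ := hφ 2
  have e4 : φ (Equiv.swap 4 5) = e := hφ 4
  have e5 : φ (Equiv.swap 5 6) = a := hφ 5
  have hinj : Function.Injective φ := injective_perm_large (by norm_num) fun h => h2'.1 (by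
    have e' : φ (Equiv.swap (0 : Fin 7) 1 * Equiv.swap 1 2) = 1 := h
    rw [map_mul, e0, e1, mul_eq_one_iff_eq_inv, inv_eq hD h2.2.1] at e'
    exact e'.symm)
  have hgenT : ∀ i, i < 6 → t i ∈ T := fun i hi => by
    interval_cases i
    exacts [h1.1.1, h2.1.1, h3.1.1.1, h4.1.1.1, he, ha]
  have hle : φ.range ≤ Subgroup.closure T := by
    rw [range_hom_perm hφ, Subgroup.closure_le]
    rintro _ ⟨i, hi, rfl⟩
    exact Subgroup.subset_closure (hgenT i hi)
  have hT : T = φ '' ↑((Finset.univ.filter fun q : Fin 7 × Fin 7 => q.1 < q.2).image fun q => Equiv.swap q.1 q.2) := by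
    refine (Set.eq_of_subset_of_ncard_le ?_ ?_ (Set.toFinite _)).symm
    · rintro _ ⟨σ, hσ, rfl⟩
      simp only [Finset.coe_image, Set.mem_image, Finset.mem_coe, Finset.mem_filter] at hσ
      obtain ⟨⟨i, j⟩, ⟨-, hij⟩, rfl⟩ := hσ
      obtain ⟨ρ, hρ⟩ := Equiv.Perm.isConj_swap (show (0 : Fin 7) ≠ 1 by decide) (ne_of_lt hij) |> isConj_iff.1
      rw [← hρ, map_mul, map_mul, map_inv, e0]
      exact P.conj_mem_self hD _ (hle ⟨ρ, rfl⟩) t₁ h1.1.1
    · rw [Set.ncard_image_of_injective _ hinj, Set.ncard_coe_finset]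
      exact P.ncard_le.trans (by decide +kernel)
  have h21 : T.ncard = 21 := by
    rw [hT, Set.ncard_image_of_injective _ hinj, Set.ncard_coe_finset]
    decide +kernel
  have hrange : φ.range = Subgroup.closure T :=
    le_antisymm hle ((Subgroup.closure_le _).2 (hT ▸ Set.image_subset_range _ _))
  exact ⟨φ, hinj, e5, hT, hrange⟩

/-- The set is the image of the transpositions. -/
theorem Seven.sym_seven (P : Seven D T) {a : G} (ha : a ∈ T) :
    T.ncard = 21 ∧ Nonempty (↥(Subgroup.closure T) ≃* Equiv.Perm (Fin 7)) ∧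
      ∃ t₁ ∈ T ∩ adj D a, ∃ t₂ ∈ T ∩ adj D a, ∃ t₃ ∈ T ∩ adj D a, ∃ t₄ ∈ T ∩ adj D a, ∃ e ∈ T,
        ¬ Commute a e ∧ Commute t₁ e ∧ Commute t₂ e ∧ Commute t₃ e ∧
        (∀ g : G, Commute g a → Commute g t₁ → Commute g t₂ → Commute g t₃ → Commute g t₄ → Commute g e →
          ∀ b ∈ T, Commute g b) ∧
        ∀ e' ∈ T, ¬ Commute a e' → Commute t₁ e' → Commute t₂ e' → Commute t₃ e' → e' = e ∨ e' = a * e * a := by
  classical
  obtain ⟨φ, hinj, e5, hT, hrange⟩ := P.exists_param hD ha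
  have h21 : T.ncard = 21 := by
    rw [hT, Set.ncard_image_of_injective _ hinj, Set.ncard_coe_finset]
    decide +kernel
  let f : Fin 6 → Equiv.Perm (Fin 7) := fun i => Equiv.swap i.castSucc i.succ
  have hmem : ∀ i, φ (f i) ∈ T := fun i => by
    rw [hT]
    exact ⟨f i, Finset.mem_image.2 ⟨(i.castSucc, i.succ),
      Finset.mem_filter.2 ⟨Finset.mem_univ _, i.castSucc_lt_succ⟩, rfl⟩, rfl⟩
  have hsep : ∀ i, i.val < 4 → φ (f i) ∈ T ∩ adj D a := fun i hi => by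
    have key : ∀ i : Fin 6, i.val < 4 → f i ≠ Equiv.swap 5 6 ∧
        Equiv.swap 5 6 * f i = f i * Equiv.swap 5 6 := by decide +kernel
    obtain ⟨h1, h2⟩ := key i hi
    exact ⟨hmem i, P.sub (hmem i), fun h => h1 (hinj (h.trans e5.symm)),
      e5 ▸ (show Commute (Equiv.swap 5 6) (f i) from h2).map φ⟩
  have nc : ¬ Commute a (φ (Equiv.swap 4 5)) := fun h => by
    rw [← e5] at h
    exact (show ¬ (Equiv.swap (5 : Fin 7) 6 * Equiv.swap 4 5 = Equiv.swap 4 5 * Equiv.swap 5 6) by decide +kernel)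
      (h.of_map hinj).eq
  have cm : ∀ {σ τ : Equiv.Perm (Fin 7)}, σ * τ = τ * σ → Commute (φ σ) (φ τ) := fun {σ τ} h =>
    (show Commute σ τ from h).map φ
  refine ⟨h21, ⟨(MulEquiv.subgroupCongr hrange.symm).trans (MonoidHom.ofInjective hinj).symm⟩,
    φ (f 0), hsep 0 (by decide), φ (f 1), hsep 1 (by decide), φ (f 2), hsep 2 (by decide), φ (f 3),
    hsep 3 (by decide), φ (f 4), hmem 4, nc, cm (by decide +kernel), cm (by decide +kernel), cm (by decide +kernel),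
    fun g g5 g0 g1 g2 g3 g4 b hb => ?_, fun e' he' hae' c1 c2 c3 => ?_⟩
  · have hb' : b ∈ φ.range := hrange.ge (Subgroup.subset_closure hb)
    let t : ℕ → G := fun i => φ (Equiv.swap (Fin.ofNat 7 i) (Fin.ofNat 7 (i + 1)))
    have hφ : ∀ i : Fin 6, φ (Equiv.swap i.castSucc i.succ) = t i := fun i => by fin_cases i <;> rfl
    rw [range_hom_perm hφ] at hb'
    refine (Subgroup.mem_centralizer_singleton_iff.1
      ((Subgroup.closure_le (Subgroup.centralizer {g})).2 ?_ hb')).symm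
    rintro _ ⟨i, hi, rfl⟩
    rw [Set.mem_Iio] at hi
    refine Subgroup.mem_centralizer_singleton_iff.2 (Commute.symm ?_)
    interval_cases i
    exacts [g0, g1, g2, g3, g4, show Commute g (φ (Equiv.swap 5 6)) from e5.symm ▸ g5]
  · obtain ⟨σ, hσ, rfl⟩ := hT.subset he'
    simp only [Finset.coe_image, Set.mem_image, Finset.mem_coe, Finset.mem_filter] at hσ
    obtain ⟨⟨i, j⟩, ⟨-, hij⟩, rfl⟩ := hσ
    have key : ∀ {τ : Equiv.Perm (Fin 7)} {s : G}, φ τ = s → Commute s (φ (Equiv.swap i j)) →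
        Equiv.swap i j * τ = τ * Equiv.swap i j := fun {τ s} h hc => by
      subst h; exact (hc.of_map hinj).symm
    rcases seven_two i j hij (key (τ := Equiv.swap 0 1) rfl c1) (key (τ := Equiv.swap 1 2) rfl c2)
      (key (τ := Equiv.swap 2 3) rfl c3) (fun h => hae' (by
      rw [← e5]; exact (Commute.map (show Commute (Equiv.swap (5 : Fin 7) 6) (Equiv.swap i j) from h.symm) φ))) with h | h
    · exact Or.inl (by rw [h]; rfl)
    · exact Or.inr (by rw [h, map_mul, map_mul, e5]; rfl)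

end Cfsg.Agent.PrimeNorm23
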