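/-
The normaliser of a subgroup of order 5 in a group of type M(23).

Main results (namespace `Cfsg.Agent.PrimeNorm23`):
* `five_seven` : the members centralising `X` have the shape of the transpositions of seven letters;
* `five_local` : `|N(X) ∩ C(a)| = 4800` and `|C(X) ∩ C(a)| = 1200` for such a member `a`;
* `five_structure` : `N(X)` is the direct product of a Frobenius group of order 20 and a group `S₇`;
* `five_conj` : subgroups of order 5 are conjugate.
-/
import Cfsg.Agent.Lib.FischerM23.PrimeNorm.Quot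
import Cfsg.Agent.Lib.FischerM23.PrimeNorm.SymSeven
import Cfsg.Agent.Lib.FischerM22.PrimeNorm.Five

set_option autoImplicit false

namespace Cfsg.Agent.PrimeNorm23

open Cfsg.Agent.ThreeTrans Cfsg.Agent.ThreeTransSU Cfsg.Agent.FischerM23 Cfsg.Agent.PrimeNorm

variable {G : Type*} [Group G] [Finite G] {D : Set G}

theorem five_exists (S : Fi23Setup D) {X : Subgroup G} (hX : Nat.card X = 5) : (fixD D X).Nonempty := by
  have := Fact.mk (by norm_num : Nat.Prime 5)
  refine Set.nonempty_of_ncard_ne_zero fun h0 => ?_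
  have h := fix_modEq hX D fun x _ y hy => S.conj_mem x hy
  rw [class_ncard S, h0] at h
  exact absurd h (by decide)

theorem five_local22 (S : Fi23Setup D) {X : Subgroup G} (hX : Nat.card X = 5) {a : G} (ha : a ∈ fixD D X) :
    Petersen (QSet D a) (fixD (QSet D a) (imgX D a X)) := by
  have := Fact.mk (by norm_num : Nat.Prime 5)
  have hQ := imgX_card S hX (by norm_num) ha
  exact five_petersen (S.localSetup ha.1) hQ (five_all_fixed (S.localSetup ha.1) hQ)

theorem five_petersen_nbr (S : Fi23Setup D) {X : Subgroup G} (hX : Nat.card X = 5) {a : G} (ha : a ∈ fixD D X) :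
    Petersen D (fixD D X ∩ adj D a) ∧ (fixD D X ∩ adj D a).ncard = 10 := by
  have P := five_local22 S hX ha
  have h10 := (P.sym_five (S.localSetup ha.1).cls.1).1
  rw [fixD_quot S ha] at P h10
  rw [qm_ncard S ha.1 Set.inter_subset_right] at h10
  set T := fixD D X ∩ adj D a with hT
  have himg : ∀ {b}, b ∈ T → qm D a '' T ∩ adj (QSet D a) (qm D a b) = qm D a '' (T ∩ adj D b) := fun {b} hb => by
    rw [qm_adj S ha.1 hb.2, qm_inter S ha.1 Set.inter_subset_right Set.inter_subset_left]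
    congr 1
    ext y
    exact ⟨fun h => ⟨h.1, h.2.2⟩, fun h => ⟨h.1, h.1.2, h.2⟩⟩
  refine ⟨⟨fun b hb => hb.1.1, Set.nonempty_of_ncard_ne_zero (by rw [h10]; norm_num), fun b hb => ?_,
    fun b hb c hc d hd hne hcd => ?_, fun b hb c hc hbc => ?_, fun b hb c hc => ?_⟩, h10⟩
  · rw [← qm_ncard S ha.1 (s := T ∩ adj D b) (Set.inter_subset_left.trans Set.inter_subset_right), ← himg hb,
      P.deg _ ⟨b, hb, rfl⟩]
  · refine P.tri _ ⟨b, hb, rfl⟩ (qm D a c) ((himg hb).ge ⟨c, hc, rfl⟩) (qm D a d) ((himg hb).ge ⟨d, hd, rfl⟩)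
      (fun e => hne (qm_inj S ha.1 hc.1.2 hd.1.2 e)) ((qm_comm S ha.1 hc.1.2 hd.1.2).2 hcd)
  · have h := P.one _ ⟨b, hb, rfl⟩ _ ⟨c, hc, rfl⟩ fun h => hbc ((qm_comm S ha.1 hb.2 hc.2).1 h)
    rw [himg hb] at h
    have e : qm D a '' (T ∩ adj D b) ∩ adj (QSet D a) (qm D a c) = qm D a '' (T ∩ adj D b ∩ adj D c) := by
      rw [qm_adj S ha.1 hc.2, qm_inter S ha.1 (Set.inter_subset_left.trans Set.inter_subset_right) Set.inter_subset_left]
      congr 1
      ext y
      exact ⟨fun h => ⟨h.1, h.2.2⟩, fun h => ⟨h.1, h.1.1.2, h.2⟩⟩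
    rw [e, qm_ncard S ha.1 ((Set.inter_subset_left.trans Set.inter_subset_left).trans Set.inter_subset_right)] at h
    exact h
  · refine ⟨conj_fixD (fun g d hd => S.conj_mem g hd) (Subgroup.centralizer_le_normalizer _ hb.1.2) hc.1, ?_⟩
    have hba : b * a * b⁻¹ = a := mul_inv_eq_iff_eq_mul.2 hb.2.2.2.symm.eq
    have h := (conj_adj S.grp.2.1 b a (b * c * b⁻¹)).2 (by simpa [mul_assoc] using hc.2)
    rwa [hba] at h

theorem five_seven (S : Fi23Setup D) {X : Subgroup G} (hX : Nat.card X = 5) : Seven D (fixD D X) := by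
  have := Fact.mk (by norm_num : Nat.Prime 5)
  have hconj : ∀ g : G, ∀ d ∈ D, g * d * g⁻¹ ∈ D := fun g d hd => S.conj_mem g hd
  refine ⟨fun a ha => ha.1, five_exists S hX, fun a ha => (five_petersen_nbr S hX ha).1,
    fun a ha => (five_petersen_nbr S hX ha).2, fun a ha e he hae => ?_, fun a ha b hb => conj_fixD hconj
    (Subgroup.centralizer_le_normalizer _ ha.2) hb⟩
  have hS : ∀ x ∈ X, ∀ y ∈ common D a e, x * y * x⁻¹ ∈ common D a e := fun x hx y hy => by
    have hxa : x * a * x⁻¹ = a := mul_inv_eq_iff_eq_mul.2 ((mem_fixD.1 ha).2 x hx)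
    have hxe : x * e * x⁻¹ = e := mul_inv_eq_iff_eq_mul.2 ((mem_fixD.1 he).2 x hx)
    have h1 := (conj_adj hconj x a (x * y * x⁻¹)).2 (by simpa [mul_assoc] using hy.1)
    have h2 := (conj_adj hconj x e (x * y * x⁻¹)).2 (by simpa [mul_assoc] using hy.2)
    rw [hxa] at h1
    rw [hxe] at h2
    exact ⟨h1, h2⟩
  have h := fix_modEq hX (common D a e) hS
  rw [common_card S ha.1 he.1 hae] at h
  have heq : fixD (common D a e) X = fixD D X ∩ adj D a ∩ adj D e := by
    ext y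
    exact ⟨fun hy => ⟨⟨⟨hy.1.1.1, hy.2⟩, hy.1.1⟩, hy.1.2⟩, fun hy => ⟨⟨hy.1.2, hy.2⟩, hy.1.1.2⟩⟩
  rw [heq] at h
  set H := fixD D X ∩ adj D a ∩ adj D e with hH
  have hle : H.ncard ≤ 10 := (Set.ncard_le_ncard Set.inter_subset_left (Set.toFinite _)).trans
    (five_petersen_nbr S hX ha).2.le
  have h' : 351 % 5 = H.ncard % 5 := h
  obtain ⟨b, hb⟩ := Set.nonempty_of_ncard_ne_zero (by omega : H.ncard ≠ 0)
  have h1 := (five_petersen_nbr S hX hb.1.1).1.one a ⟨ha, ha.1, hb.1.2.2.1.symm, hb.1.2.2.2.symm⟩ e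
    ⟨he, he.1, hb.2.2.1.symm, hb.2.2.2.symm⟩ hae
  obtain ⟨c, hc⟩ := Set.ncard_eq_one.1 h1
  have hcm : c ∈ fixD D X ∩ adj D b ∩ adj D a ∩ adj D e := hc.ge rfl
  have h2 : 1 < H.ncard := (Set.one_lt_ncard (Set.toFinite _)).2
    ⟨b, hb, c, ⟨⟨hcm.1.1.1, hcm.1.2⟩, hcm.2⟩, hcm.1.1.2.2.1.symm⟩
  omega

theorem five_local (S : Fi23Setup D) {X : Subgroup G} (hX : Nat.card X = 5) {a : G} (ha : a ∈ fixD D X) :
    Nat.card ↥(Subgroup.centralizer ({a} : Set G) ⊓ Subgroup.normalizer (X : Set G)) = 4800 ∧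
      Nat.card ↥(Subgroup.centralizer ({a} : Set G) ⊓ Subgroup.centralizer (X : Set G)) = 1200 := by
  have := Fact.mk (by norm_num : Nat.Prime 5)
  have hQ := imgX_card S hX (by norm_num) ha
  have S22 := S.localSetup ha.1
  have hne := five_all_fixed S22 hQ
  obtain ⟨F, hF, -, -, hbot, hcomm, hsup, ⟨e⟩⟩ := PrimeNorm.five_structure S22 hQ hne
  have P := five_petersen S22 hQ hne
  obtain ⟨-, -, -, hC⟩ := petersen_split S22.cls.1 P (H := Subgroup.centralizer ((imgX D a X) : Set (QL D a)))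
    ((Subgroup.closure_le _).2 fun y hy => hy.2)
    (fun g hg b hb => conj_fixD (fun g d hd => S22.conj_mem g hd) (Subgroup.centralizer_le_normalizer _ hg) hb)
  constructor
  · rw [norm_quot S hX (by norm_num) ha, ← hsup, sup_card (fun z hz => Subgroup.centralizer_le_normalizer _
      (Subgroup.mem_centralizer_iff.2 fun x hx => hcomm x hx z hz)) hbot, hF, Nat.card_congr e.toEquiv,
      Nat.card_perm, Nat.card_fin]
    rfl
  · rw [cent_quot S hX (by norm_num) ha, hC, five_core S22 hQ hne]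

theorem five_structure (S : Fi23Setup D) {X : Subgroup G} (hX : Nat.card X = 5) :
    ∃ F : Subgroup G, Nat.card ↥F = 20 ∧ X ≤ F ∧ F ⊓ Subgroup.centralizer (X : Set G) = X ∧
      F ⊓ Subgroup.closure (fixD D X) = ⊥ ∧
      (∀ x ∈ F, ∀ y ∈ Subgroup.closure (fixD D X), x * y = y * x) ∧
      F ⊔ Subgroup.closure (fixD D X) = Subgroup.normalizer (X : Set G) ∧
      Nonempty (↥(Subgroup.closure (fixD D X)) ≃* Equiv.Perm (Fin 7)) := by
  have := Fact.mk (by norm_num : Nat.Prime 5)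
  have hD := S.cls.1
  have hconj : ∀ g : G, ∀ d ∈ D, g * d * g⁻¹ ∈ D := fun g d hd => S.conj_mem g hd
  have P := five_seven S hX
  obtain ⟨a, ha⟩ := P.ne
  obtain ⟨h21, ⟨iso⟩, t₁, h1, t₂, h2, t₃, h3, t₄, h4, e, he, hae, c1, c2, c3, hgen, htwo⟩ := P.sym_seven hD ha
  set T := fixD D X with hT
  set L := Subgroup.closure T with hL
  set N := Subgroup.normalizer (X : Set G) with hNdef
  set C := Subgroup.centralizer (X : Set G) with hCdef
  have hCN : C ≤ N := Subgroup.centralizer_le_normalizer _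
  have hLC : L ≤ C := (Subgroup.closure_le _).2 fun y hy => hy.2
  have hLc : Nat.card L = 5040 := by rw [Nat.card_congr iso.toEquiv, Nat.card_perm, Nat.card_fin]; rfl
  have hNT : ∀ g ∈ N, ∀ b ∈ T, g * b * g⁻¹ ∈ T := fun g hg b hb => conj_fixD hconj hg hb
  have htrans : ∀ y ∈ T, ∃ g ∈ L, g * a * g⁻¹ = y := by
    intro y hy
    have key : ∀ y ∈ T, ¬ Commute a y → ∃ g ∈ L, g * a * g⁻¹ = y := fun y hy h =>
      ⟨_, mul_mem (Subgroup.subset_closure ha) (Subgroup.subset_closure hy), (fixD_conj hD ha hy h).2⟩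
    by_cases hc : Commute a y
    swap
    · exact key y hy hc
    by_cases e0 : a = y
    · exact ⟨1, one_mem _, by simp [e0]⟩
    -- through a member not commuting with either
    obtain ⟨z, hz, z1, z2⟩ : ∃ z ∈ T, ¬ Commute a z ∧ ¬ Commute z y := by
      by_contra hno
      push Not at hno
      have hsub : T ⊆ insert a ((T ∩ adj D a) ∪ ((T ∩ adj D y) \ {a})) := by
        intro z hz
        by_cases q1 : z = a
        · exact Or.inl q1
        by_cases q2 : Commute a z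
        · exact Or.inr (Or.inl ⟨hz, hz.1, q1, q2⟩)
        exact Or.inr (Or.inr ⟨⟨hz, hz.1, fun q3 => q2 (q3 ▸ hc), (hno z hz q2).symm⟩, q1⟩)
      have h := Set.ncard_le_ncard hsub (Set.toFinite _)
      have b1 := Set.ncard_insert_le a ((T ∩ adj D a) ∪ ((T ∩ adj D y) \ {a}))
      have b2 := Set.ncard_union_le (T ∩ adj D a) ((T ∩ adj D y) \ {a})
      have b4 := Set.ncard_sdiff_singleton_of_mem (show a ∈ T ∩ adj D y from ⟨ha, ha.1, e0, hc.symm⟩)
      rw [h21] at h
      rw [P.ten a ha] at b2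
      rw [P.ten y hy] at b4
      omega
    obtain ⟨g, hg, rfl⟩ := key z hz z1
    refine ⟨g * a * g⁻¹ * y * g, mul_mem (mul_mem (Subgroup.subset_closure hz) (Subgroup.subset_closure hy)) hg, ?_⟩
    have := (fixD_conj hD hz hy z2).2
    rw [show g * a * g⁻¹ * y * g * a * (g * a * g⁻¹ * y * g)⁻¹ =
      g * a * g⁻¹ * y * (g * a * g⁻¹) * (g * a * g⁻¹ * y)⁻¹ by group]
    exact this
  have hN := orbit_single N a (O := T) fun y =>
    ⟨fun hy => let ⟨g, hg, e⟩ := htrans y hy; ⟨g, hCN (hLC hg), e⟩, fun ⟨g, hg, e⟩ => e ▸ hNT g hg a ha⟩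
  have hC := orbit_single C a (O := T) fun y =>
    ⟨fun hy => let ⟨g, hg, e⟩ := htrans y hy; ⟨g, hLC hg, e⟩, fun ⟨g, hg, e⟩ => e ▸ hNT g (hCN hg) a ha⟩
  obtain ⟨l1, l2⟩ := five_local S hX ha
  rw [h21, inf_comm, l1] at hN
  rw [h21, inf_comm, l2] at hC
  -- the part fixing the neighbours of `a`
  set M := Subgroup.centralizer ({a} : Set G) ⊓ N with hM
  have hTa : Subgroup.closure (T ∩ adj D a) ≤ M := (Subgroup.closure_le _).2 fun y hy =>
    ⟨Subgroup.mem_centralizer_singleton_iff.2 hy.2.2.2.symm, hCN hy.1.2⟩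
  obtain ⟨-, -, -, hcard⟩ := petersen_split hD (P.loc a ha) hTa fun g hg b hb => by
    refine ⟨hNT g hg.2 b hb.1, ?_⟩
    have hga : g * a * g⁻¹ = a := mul_inv_eq_iff_eq_mul.2 (Subgroup.mem_centralizer_singleton_iff.1 hg.1)
    have h := (conj_adj hconj g a (g * b * g⁻¹)).2 (by simpa [mul_assoc] using hb.2)
    rwa [hga] at h
  rw [l1] at hcard
  set K := M ⊓ Subgroup.centralizer (T ∩ adj D a) with hK
  let O : Set G := {y | ∃ k ∈ K, k * e * k⁻¹ = y}
  have hO := orbit_single K e (O := O) fun y => Iff.rfl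
  have hOsub : O ⊆ {e, a * e * a} := by
    rintro _ ⟨k, hk, rfl⟩
    have hka : Commute k a := Subgroup.mem_centralizer_singleton_iff.1 hk.1.1
    have fix : ∀ t ∈ T ∩ adj D a, k * t * k⁻¹ = t := fun t ht =>
      mul_inv_eq_iff_eq_mul.2 (Subgroup.mem_centralizer_iff.1 hk.2 t ht).symm
    have key : ∀ t ∈ T ∩ adj D a, Commute t e → Commute t (k * e * k⁻¹) := fun t ht h => by
      have := h.map (MulAut.conj k).toMonoidHom
      rwa [show (MulAut.conj k).toMonoidHom t = t from fix t ht] at this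
    rcases htwo _ (hNT k hk.1.2 e he) (fun h => hae (Commute.of_map (f := (MulAut.conj k).toMonoidHom)
      (MulAut.conj k).injective (by
        show Commute (k * a * k⁻¹) (k * e * k⁻¹)
        rwa [hka.eq, mul_inv_cancel_right]))) (key t₁ h1 c1) (key t₂ h2 c2) (key t₃ h3 c3) with h | h
    exacts [Or.inl h, Or.inr h]
  have hO2 : O.ncard ≤ 2 := (Set.ncard_le_ncard hOsub (Set.toFinite _)).trans ((Set.ncard_insert_le _ _).trans
    (by rw [Set.ncard_singleton]))
  set F := N ⊓ Subgroup.centralizer T with hF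
  have hKF : K ⊓ Subgroup.centralizer {e} ≤ F := fun k hk => ⟨hk.1.1.2, Subgroup.mem_centralizer_iff.2 fun b hb =>
    (hgen k (Subgroup.mem_centralizer_singleton_iff.1 hk.1.1.1) (Subgroup.mem_centralizer_iff.1 hk.1.2 t₁ h1).symm
      (Subgroup.mem_centralizer_iff.1 hk.1.2 t₂ h2).symm (Subgroup.mem_centralizer_iff.1 hk.1.2 t₃ h3).symm
      (Subgroup.mem_centralizer_iff.1 hk.1.2 t₄ h4).symm (Subgroup.mem_centralizer_singleton_iff.1 hk.2) b hb).eq.symm⟩
  have hcomm : ∀ x ∈ F, ∀ y ∈ L, x * y = y * x := fun x hx y hy =>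
    (Subgroup.mem_centralizer_singleton_iff.1 ((Subgroup.closure_le (Subgroup.centralizer {x})).2
      (fun b hb => Subgroup.mem_centralizer_singleton_iff.2 (Subgroup.mem_centralizer_iff.1 hx.2 b hb)) hy)).symm
  have hbot : F ⊓ L = ⊥ := inf_bot_of_center iso perm_seven_center hcomm
  have hnorm : ∀ {H : Subgroup G}, H ≤ F → L ≤ Subgroup.normalizer (H : Set G) := fun {H} hH y hy =>
    Subgroup.centralizer_le_normalizer _ (Subgroup.mem_centralizer_iff.2 fun x hx => hcomm x (hH hx) y hy)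
  have hFc : Nat.card F = 20 := by
    have h20 : 20 ≤ Nat.card F := by
      have h := Nat.le_of_dvd Nat.card_pos (Subgroup.card_dvd_of_le hKF)
      have h2 : O.ncard * Nat.card ↥(K ⊓ Subgroup.centralizer {e}) ≤ 2 * Nat.card ↥(K ⊓ Subgroup.centralizer {e}) :=
        Nat.mul_le_mul_right _ hO2
      omega
    have h := Nat.le_of_dvd Nat.card_pos (Subgroup.card_dvd_of_le (sup_le inf_le_left (hLC.trans hCN) : F ⊔ L ≤ N))
    rw [sup_card (hnorm le_rfl) hbot, hLc, hN] at h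
    omega
  have hXC : X ≤ C := fun z hz => Subgroup.mem_centralizer_iff.2 fun w hw => by
    have := isCyclic_of_prime_card hX
    exact congrArg Subtype.val ((IsMulCommutative.is_comm (M := X)).comm ⟨w, hw⟩ ⟨z, hz⟩)
  have hXF : X ≤ F := le_inf Subgroup.le_normalizer fun x hx =>
    Subgroup.mem_centralizer_iff.2 fun b hb => ((mem_fixD.1 hb).2 x hx).eq.symm
  refine ⟨F, hFc, hXF, (Subgroup.eq_of_le_of_card_ge (le_inf hXF hXC) ?_).symm, hbot, hcomm,
    direct_split inf_le_left (hLC.trans hCN) hbot hcomm (by rw [hFc, hLc, hN]), ⟨iso⟩⟩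
  have h := Nat.le_of_dvd Nat.card_pos (Subgroup.card_dvd_of_le (sup_le inf_le_right hLC : (F ⊓ C) ⊔ L ≤ C))
  rw [sup_card (hnorm inf_le_left) (le_bot_iff.1 ((inf_le_inf_right L inf_le_left).trans hbot.le)), hLc, hC] at h
  rw [hX]
  omega

theorem five_conj (S : Fi23Setup D) {X Y : Subgroup G} (hX : Nat.card X = 5) (hY : Nat.card Y = 5) :
    ∃ g : G, X.map (MulAut.conj g).toMonoidHom = Y := by
  have := Fact.mk (by norm_num : Nat.Prime 5)
  obtain ⟨a, ha⟩ := five_exists S hX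
  obtain ⟨b, hb⟩ := five_exists S hY
  obtain ⟨g, rfl⟩ := class_conj S.cls ha.1 hb.1
  set X' := X.map (MulAut.conj g).toMonoidHom with hX'
  have hX'c : Nat.card X' = 5 := by
    rw [hX', ← Nat.card_congr (X.equivMapOfInjective _ (MulAut.conj g).injective).toEquiv, hX]
  have ha' : g * a * g⁻¹ ∈ fixD D X' := mem_fixD.2 ⟨hb.1, by
    rintro _ ⟨x, hx, rfl⟩
    exact ((mem_fixD.1 ha).2 x hx).map (MulAut.conj g).toMonoidHom⟩
  obtain ⟨q, hq⟩ := PrimeNorm.five_conj (S.localSetup hb.1) (imgX_card S hX'c (by norm_num) ha')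
    (imgX_card S hY (by norm_num) hb)
  obtain ⟨k, rfl⟩ := QuotientGroup.mk'_surjective _ q
  refine ⟨(k : G) * g, Subgroup.eq_of_le_of_card_ge ?_ (by
    rw [hY, ← Nat.card_congr (X.equivMapOfInjective _ (MulAut.conj _).injective).toEquiv, hX])⟩
  rintro _ ⟨x, hx, rfl⟩
  have hxX' : g * x * g⁻¹ ∈ X' := ⟨x, hx, rfl⟩
  let x' : ↥(Loc D (g * a * g⁻¹)) := ⟨g * x * g⁻¹, le_loc S ha' hxX'⟩
  obtain ⟨y, hy, hyq⟩ := hq.le ⟨_, ⟨x', hxX', rfl⟩, rfl⟩
  have hq' : toQ ↥(Loc D (g * a * g⁻¹)) (k * x' * k⁻¹) = toQ ↥(Loc D (g * a * g⁻¹)) y := by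
    rw [map_mul, map_mul, map_inv, hyq]; rfl
  have := sep S (p := 5) (by norm_num) hb.1 (pow_sub hY (g := y) hy) (z := y⁻¹ * (k * x' * k⁻¹))
    (by rw [map_mul, map_inv, hq', inv_mul_cancel])
    (by rw [mul_inv_cancel_left, conj_pow, pow_sub hX'c (g := x') hxX', mul_one, mul_inv_cancel])
  rw [inv_mul_eq_one] at this
  show (k : G) * g * x * ((k : G) * g)⁻¹ ∈ Y
  have e : (k : G) * (g * x * g⁻¹) * (k : G)⁻¹ = (y : G) := congrArg Subtype.val this.symm
  rw [show (k : G) * g * x * ((k : G) * g)⁻¹ = k * (g * x * g⁻¹) * (k : G)⁻¹ by group, e]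
  exact hy

end Cfsg.Agent.PrimeNorm23
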