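/-
The normaliser of a subgroup of order 13 in a group of type M(23).

Main results (namespace `Cfsg.Agent.PrimeNorm23`):
* `thirteen_count` : exactly three members centralise `X`, `|N(X)| = 468` and `|C(X)| = 78`;
* `thirteen_structure` : `N(X)` is the direct product of a Frobenius group of order 78 and a group `S₃`.
-/
import Cfsg.Agent.Lib.FischerM23.PrimeNorm.Quot
import Cfsg.Agent.Lib.FischerM22.PrimeNorm.ThirteenBlock
import Cfsg.Agent.Lib.FischerM22.PrimeNorm.ThreeSplit
import Cfsg.Agent.Lib.FischerM23.Involutions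

set_option autoImplicit false

namespace Cfsg.Agent.PrimeNorm23

open Cfsg.Agent.ThreeTrans Cfsg.Agent.ThreeTransSU Cfsg.Agent.FischerM23 Cfsg.Agent.PrimeNorm

variable {G : Type*} [Group G] [Finite G] {D : Set G}

theorem thirteen_far (S : Fi23Setup D) {X : Subgroup G} (hX : Nat.card X = 13) :
    ∀ a ∈ fixD D X, ∀ b ∈ fixD D X, a ≠ b → ¬ Commute a b := by
  intro a ha b hb hne hc
  have := Fact.mk (by norm_num : Nat.Prime 13)
  have h := fixD_adj_ncard S ha
  rw [PrimeNorm.thirteen_fixD (S.localSetup ha.1) (imgX_card S hX (by norm_num) ha), Set.ncard_empty,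
    Set.ncard_eq_zero (Set.toFinite _)] at h
  exact h.subset (⟨hb, hb.1, hne.symm, hc⟩ : b ∈ fixD D X ∩ adj D a)

theorem thirteen_count (S : Fi23Setup D) {X : Subgroup G} (hX : Nat.card X = 13) :
    (fixD D X).ncard = 3 ∧ Nat.card ↥(Subgroup.normalizer (X : Set G)) = 468 ∧
      Nat.card ↥(Subgroup.centralizer (X : Set G)) = 78 := by
  have := Fact.mk (by norm_num : Nat.Prime 13)
  have hconj : ∀ g : G, ∀ d ∈ D, g * d * g⁻¹ ∈ D := fun g d hd => S.conj_mem g hd
  have h := fix_modEq hX D fun x _ y hy => S.conj_mem x hy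
  rw [class_ncard S] at h
  obtain ⟨d, hd⟩ : (fixD D X).Nonempty := by
    refine Set.nonempty_of_ncard_ne_zero fun h0 => ?_
    rw [h0] at h
    exact absurd h (by decide)
  have hfar := thirteen_far S hX
  set C := Subgroup.centralizer (X : Set G) with hCdef
  set N := Subgroup.normalizer (X : Set G) with hNdef
  have hCN : C ≤ N := Subgroup.centralizer_le_normalizer _
  have htr : ∀ y ∈ fixD D X, ∃ g ∈ C, g * d * g⁻¹ = y := fun y hy => by
    by_cases e : d = y
    · exact ⟨1, one_mem _, by simp [e]⟩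
    · exact ⟨_, fixD_conj S.cls.1 hd hy (hfar d hd y hy e)⟩
  have hC := orbit_single C d (O := fixD D X) fun y => ⟨htr y, fun ⟨g, hg, e⟩ => e ▸ conj_fixD hconj (hCN hg) hd⟩
  have hN := orbit_single N d (O := fixD D X) fun y =>
    ⟨fun hy => let ⟨g, hg, e⟩ := htr y hy; ⟨g, hCN hg, e⟩, fun ⟨g, hg, e⟩ => e ▸ conj_fixD hconj hg hd⟩
  have hQ := imgX_card S hX (by norm_num) hd
  obtain ⟨n22, c22⟩ := PrimeNorm.thirteen_structure (S.localSetup hd.1) hQ
  rw [inf_comm, cent_quot S hX (by norm_num) hd, c22, hQ] at hC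
  rw [inf_comm, norm_quot S hX (by norm_num) hd, n22] at hN
  have hb := fix_bound (p := 13) hconj (fun a ha b hb => class_conj S.cls ha hb)
    (fun a ha b hb hne hc a' ha' b' hb' hne' hc' => pair_conj S ha ⟨hb, hne.symm, hc⟩ ha' ⟨hb', hne'.symm, hc'⟩)
    (fun a ha b hb hn a' ha' b' hb' hn' => by
      obtain ⟨g, hg⟩ := class_conj S.cls ha ha'
      have hn1 : ¬ Commute a' (g * b * g⁻¹) := fun hc => hn (by
        refine Commute.of_map (f := (MulAut.conj g).toMonoidHom) (MulAut.conj g).injective ?_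
        show Commute (g * a * g⁻¹) (g * b * g⁻¹)
        rwa [hg])
      obtain ⟨k, hka, hkb⟩ := centralizer_transitive S ha' (S.conj_mem g hb) hb' hn1 hn'
      refine ⟨k * g, ?_, ?_⟩
      · rw [show k * g * a * (k * g)⁻¹ = k * (g * a * g⁻¹) * k⁻¹ by group, hg, hka.eq, mul_inv_cancel_right]
      · rw [show k * g * b * (k * g)⁻¹ = k * (g * b * g⁻¹) * k⁻¹ by group, hkb])
    ⟨d, hd.1⟩ hX
  rw [← hNdef, hN] at hb
  push_cast at hb
  -- the number of members is odd
  have hodd : (fixD D X).ncard % 2 = 1 := by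
    have := Fact.mk Nat.prime_two
    have h2 : Nat.card (Subgroup.zpowers d) = 2 := by rw [Nat.card_zpowers, S.cls.1.1 d hd.1]
    have h := fix_modEq h2 (fixD D X) fun z hz y hy => conj_fixD hconj
      (Subgroup.zpowers_le.2 (Subgroup.centralizer_le_normalizer _ hd.2) hz) hy
    have e : fixD (fixD D X) (Subgroup.zpowers d) = {d} := by
      refine Set.eq_singleton_iff_unique_mem.2 ⟨mem_fixD.2 ⟨hd, fun z hz => ?_⟩, fun y hy => ?_⟩
      · obtain ⟨i, rfl⟩ := hz
        exact (Commute.refl d).zpow_left i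
      · by_contra hne
        exact hfar d hd y hy.1 (Ne.symm hne) ((mem_fixD.1 hy).2 d (Subgroup.mem_zpowers d))
    rw [e, Set.ncard_singleton] at h
    exact h
  have h' : 31671 % 13 = (fixD D X).ncard % 13 := h
  generalize (fixD D X).ncard = s at hC hN hb hodd h'
  have hs : s ≤ 27 := by
    by_contra hlt
    have : (28 : ℤ) ≤ s := by exact_mod_cast (by omega : 28 ≤ s)
    nlinarith
  obtain rfl : s = 3 := by omega
  exact ⟨rfl, hN, hC⟩

theorem thirteen_structure (S : Fi23Setup D) {X : Subgroup G} (hX : Nat.card X = 13) :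
    ∃ F : Subgroup G, Nat.card ↥F = 78 ∧ X ≤ F ∧ F ⊓ Subgroup.centralizer (X : Set G) = X ∧
      F ⊓ Subgroup.closure (fixD D X) = ⊥ ∧
      (∀ x ∈ F, ∀ y ∈ Subgroup.closure (fixD D X), x * y = y * x) ∧
      F ⊔ Subgroup.closure (fixD D X) = Subgroup.normalizer (X : Set G) ∧
      Nonempty (↥(Subgroup.closure (fixD D X)) ≃* Equiv.Perm (Fin 3)) := by
  have := Fact.mk (by norm_num : Nat.Prime 13)
  obtain ⟨hs, hN, hC⟩ := thirteen_count S hX
  exact three_split S.cls.1 (fun g d hd => S.conj_mem g hd) hX hs (thirteen_far S hX) (by rw [hN]) (by rw [hC])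

end Cfsg.Agent.PrimeNorm23
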